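import Groth.Prelude.Def_Exal
import Groth.Prelude.Def_Exal2
import Mathlib.RingTheory.Derivation.Basic
import Mathlib.Tactic.LinearCombination
import Mathlib.Tactic.NoncommRing

/-!
# Extensions of algebras: basic calculus

Sections, derivations from pairs of liftings, extensions attached to derivations.
-/

set_option autoImplicit false
set_option linter.style.haveILetI false
set_option backward.isDefEq.respectTransparency false

universe u v w t

namespace Groth.Agent.ExalLib

open Exal

attribute [local instance] Exal.opModule Exal.isCentralScalar_opModule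

section General

variable {A : Type u} {B L : Type v} [CommRing A] [CommRing B] [Algebra A B] [AddCommGroup L] [Module B L]
variable (X Y : Ext A B L)

theorem proj_incl (z : L) : X.proj (X.incl z) = 0 := (X.isExtension.exact _).2 ⟨z, rfl⟩

theorem incl_mul_incl (z z' : L) : X.incl z * X.incl z' = 0 := by
  rw [X.isExtension.mul_incl, proj_incl, zero_smul, map_zero]

theorem exists_incl {x y : X.E} (h : X.proj x = X.proj y) : ∃ z, x = y + X.incl z := by
  obtain ⟨z, hz⟩ := (X.isExtension.exact (x - y)).1 (by rw [map_sub, h, sub_self])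
  exact ⟨z, by rw [hz]; ring⟩

variable {X Y}

theorem bijective_of_compat (f : X.E →ₐ[A] Y.E) (hp : ∀ x, Y.proj (f x) = X.proj x)
    (hi : ∀ z, f (X.incl z) = Y.incl z) : Function.Bijective f := by
  refine ⟨(injective_iff_map_eq_zero f).2 fun x hx => ?_, fun y => ?_⟩
  · obtain ⟨z, rfl⟩ := (X.isExtension.exact x).1 (by rw [← hp, hx, map_zero])
    rw [hi, map_eq_zero_iff _ Y.isExtension.incl_injective] at hx
    rw [hx, map_zero]
  · obtain ⟨x, hx⟩ := X.isExtension.proj_surjective (Y.proj y)
    obtain ⟨z, hz⟩ := exists_incl Y (x := y) (y := f x) (by rw [hp, hx])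
    exact ⟨x + X.incl z, by rw [map_add, hi, hz]⟩

/-- An equivalence from a compatible algebra map. -/
noncomputable def mkEquiv (f : X.E →ₐ[A] Y.E) (hp : ∀ x, Y.proj (f x) = X.proj x)
    (hi : ∀ z, f (X.incl z) = Y.incl z) : X.Equiv Y where
  toAlgEquiv := AlgEquiv.ofBijective f (bijective_of_compat f hp hi)
  proj_apply := hp
  apply_incl := hi

theorem isTrivial_of_equiv (e : X.Equiv Y) (h : X.IsTrivial) : Y.IsTrivial := by
  obtain ⟨s, hs⟩ := h
  exact ⟨e.toAlgEquiv.toAlgHom.comp s, fun b => (e.proj_apply (s b)).trans (hs b)⟩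

end General

section TwoBases

variable {A : Type u} {B : Type t} {C L : Type v} [CommRing A] [CommRing B] [CommRing C] [Algebra A B] [Algebra B C]
  [Algebra A C] [IsScalarTower A B C] [AddCommGroup L] [Module C L]

theorem exists_sec {X : Ext B C L} (h : X.IsTrivialOver A) :
    ∃ s : C →+* X.E, (∀ c, X.proj (s c) = c) ∧
      ∀ a, s (algebraMap A C a) = algebraMap B X.E (algebraMap A B a) := by
  obtain ⟨s, hs⟩ := h
  exact ⟨(s.toRingHom : C →+* X.RestrictCarrier A), hs, fun a => s.commutes a⟩

theorem isTrivialOver_of_sec {X : Ext B C L} (s : C →+* X.E) (hs : ∀ c, X.proj (s c) = c)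
    (hA : ∀ a, s (algebraMap A C a) = algebraMap B X.E (algebraMap A B a)) : X.IsTrivialOver A :=
  ⟨{ (s : C →+* X.RestrictCarrier A) with commutes' := hA }, hs⟩

theorem isTrivialOver_of_equiv {X Y : Ext B C L} (e : X.Equiv Y) (h : X.IsTrivialOver A) : Y.IsTrivialOver A := by
  obtain ⟨s, hs, hA⟩ := exists_sec h
  refine isTrivialOver_of_sec ((e.toAlgEquiv : X.E ≃ₐ[B] Y.E).toAlgHom.toRingHom.comp s) (fun c => ?_) fun a => ?_
  · exact (e.proj_apply (s c)).trans (hs c)
  · show e.toAlgEquiv (s (algebraMap A C a)) = _
    rw [hA, AlgEquiv.commutes]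

section DiffDer

variable {R : Type w} [CommRing R] [Algebra A R] [Module R L] [Module A L] [IsScalarTower A R L]
  (X : Ext B C L) (f g : R →+* X.E) (hp : ∀ r, X.proj (f r) = X.proj (g r))
  (act : ∀ (r : R) (z : L), r • z = X.proj (g r) • z)
  (hA : ∀ a : A, f (algebraMap A R a) = g (algebraMap A R a))

/-- The difference of two liftings, an element of the kernel module. -/
noncomputable def diffFun (r : R) : L := X.kerLift (f r - g r) (by rw [map_sub, hp, sub_self])

theorem incl_diffFun (r : R) : X.incl (diffFun X f g hp r) = f r - g r := X.incl_kerLift _ _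

include act in
theorem diffFun_mul (r r' : R) :
    diffFun X f g hp (r * r') = r • diffFun X f g hp r' + r' • diffFun X f g hp r := by
  apply X.isExtension.incl_injective
  have h1 := X.isExtension.mul_incl (f r) (diffFun X f g hp r')
  have h2 := X.isExtension.mul_incl (g r') (diffFun X f g hp r)
  rw [incl_diffFun] at h1 h2
  rw [map_add, act, act, incl_diffFun, ← hp r, ← h1, ← h2, map_mul, map_mul]
  ring

/-- The derivation given by the difference of two liftings. -/
noncomputable def diffDer : Derivation A R L :=
  Derivation.mk'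
    { toFun := diffFun X f g hp
      map_add' := fun r r' => by
        apply X.isExtension.incl_injective
        rw [map_add, incl_diffFun, incl_diffFun, incl_diffFun, map_add, map_add]
        ring
      map_smul' := fun a r => by
        have h0 : diffFun X f g hp (algebraMap A R a) = 0 := by
          apply X.isExtension.incl_injective
          rw [incl_diffFun, hA, sub_self, map_zero]
        rw [Algebra.smul_def, diffFun_mul X f g hp act, h0, smul_zero, add_zero, RingHom.id_apply,
          algebraMap_smul] }
    (diffFun_mul X f g hp act)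

theorem incl_diffDer (r : R) : X.incl (diffDer X f g hp act hA r) = f r - g r := incl_diffFun X f g hp r

end DiffDer

variable [Module B L] [IsScalarTower B C L] [Module A L] [IsScalarTower A B L]
variable (X : Ext B C L) (s : C →+* X.E) (hs : ∀ c, X.proj (s c) = c)
  (hsA : ∀ a, s (algebraMap A C a) = algebraMap B X.E (algebraMap A B a))

/-- The derivation of `B` attached to a section over `A`. -/
noncomputable def derOf : Derivation A B L :=
  diffDer (A := A) X (algebraMap B X.E) (s.comp (algebraMap B C))
    (fun b => by rw [RingHom.comp_apply, hs, X.proj.commutes])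
    (fun b z => by rw [RingHom.comp_apply, hs, IsScalarTower.algebraMap_smul])
    (fun a => by rw [RingHom.comp_apply, ← IsScalarTower.algebraMap_apply A B C, hsA])

theorem incl_derOf (b : B) : X.incl (derOf X s hs hsA b) = algebraMap B X.E b - s (algebraMap B C b) :=
  incl_diffDer (A := A) X _ _ _ _ _ b

end TwoBases

section SameUniverse

variable {A : Type u} {B C L : Type v} [CommRing A] [CommRing B] [CommRing C] [Algebra A B] [Algebra B C]
  [Algebra A C] [IsScalarTower A B C] [AddCommGroup L] [Module C L]
variable [Module B L] [IsScalarTower B C L] [Module A L] [IsScalarTower A B L]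
variable (X : Ext B C L) (s : C →+* X.E) (hs : ∀ c, X.proj (s c) = c)
  (hsA : ∀ a, s (algebraMap A C a) = algebraMap B X.E (algebraMap A B a))

/-- An extension with a section over `A` is the extension of its derivation. -/
noncomputable def equivOfSection : (Ext.ofDerivation (C := C) (derOf X s hs hsA)).Equiv X := by
  let f : TrivSqZeroExt C L → X.E := fun x =>
    s (TrivSqZeroExt.fst x) + X.incl (TrivSqZeroExt.snd x)
  have hmul : ∀ x y, f (x * y) = f x * f y := fun x y => by
    show s (x * y).fst + X.incl (x * y).snd = _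
    rw [TrivSqZeroExt.fst_mul, TrivSqZeroExt.snd_mul, map_mul, op_smul_eq_smul, map_add]
    show _ = (s (TrivSqZeroExt.fst x) + X.incl (TrivSqZeroExt.snd x)) * (s (TrivSqZeroExt.fst y) + X.incl (TrivSqZeroExt.snd y))
    have h1 := X.isExtension.mul_incl (s (TrivSqZeroExt.fst x)) (TrivSqZeroExt.snd y)
    have h2 := X.isExtension.mul_incl (s (TrivSqZeroExt.fst y)) (TrivSqZeroExt.snd x)
    rw [hs] at h1 h2
    linear_combination -h1 - h2 - incl_mul_incl X (TrivSqZeroExt.snd x) (TrivSqZeroExt.snd y)
  refine mkEquiv
    { toFun := f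
      map_one' := by
        show s (TrivSqZeroExt.fst (1 : TrivSqZeroExt C L)) + X.incl (TrivSqZeroExt.snd (1 : TrivSqZeroExt C L)) = 1
        rw [TrivSqZeroExt.fst_one, TrivSqZeroExt.snd_one, map_one, map_zero, add_zero]
      map_mul' := fun (x y : TrivSqZeroExt C L) => hmul x y
      map_zero' := by
        show s (TrivSqZeroExt.fst (0 : TrivSqZeroExt C L)) + X.incl (TrivSqZeroExt.snd (0 : TrivSqZeroExt C L)) = 0
        rw [TrivSqZeroExt.fst_zero, TrivSqZeroExt.snd_zero, map_zero, map_zero, add_zero]
      map_add' := fun (x y : TrivSqZeroExt C L) => by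
        show s (x + y).fst + X.incl (x + y).snd = f x + f y
        rw [TrivSqZeroExt.fst_add, TrivSqZeroExt.snd_add, map_add, map_add]
        show _ = s _ + X.incl _ + (s _ + X.incl _)
        abel
      commutes' := fun b => by
        show s (TrivSqZeroExt.fst (TrivSqZeroExt.inl (algebraMap B C b) + TrivSqZeroExt.inr (derOf X s hs hsA b) : TrivSqZeroExt C L))
          + X.incl (TrivSqZeroExt.snd (TrivSqZeroExt.inl (algebraMap B C b) + TrivSqZeroExt.inr (derOf X s hs hsA b) : TrivSqZeroExt C L)) = _
        simp only [TrivSqZeroExt.fst_add, TrivSqZeroExt.snd_add, TrivSqZeroExt.fst_inl, TrivSqZeroExt.fst_inr,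
          TrivSqZeroExt.snd_inl, TrivSqZeroExt.snd_inr, add_zero, zero_add, incl_derOf]
        ring } (fun x => ?_) fun z => ?_
  · show X.proj (s _ + X.incl _) = TrivSqZeroExt.fst x
    rw [map_add, hs, proj_incl, add_zero]
  · show s (TrivSqZeroExt.fst (TrivSqZeroExt.inr z : TrivSqZeroExt C L)) + X.incl (TrivSqZeroExt.snd (TrivSqZeroExt.inr z : TrivSqZeroExt C L)) = X.incl z
    rw [TrivSqZeroExt.fst_inr, TrivSqZeroExt.snd_inr, map_zero, zero_add]

variable [IsScalarTower A C L]

/-- The canonical section of the extension of a derivation. -/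
noncomputable def derSec (D : Derivation A B L) : C →+* (Ext.ofDerivation (C := C) D).E :=
  (TrivSqZeroExt.inlHom C L : C →+* TrivSqZeroExt C L)

theorem derSec_proj (D : Derivation A B L) (c : C) : (Ext.ofDerivation (C := C) D).proj (derSec D c) = c := rfl

theorem derSec_algebraMap (D : Derivation A B L) (a : A) :
    derSec (C := C) D (algebraMap A C a) = algebraMap B (Ext.ofDerivation (C := C) D).E (algebraMap A B a) := by
  show (TrivSqZeroExt.inl (algebraMap A C a) : TrivSqZeroExt C L)
    = TrivSqZeroExt.inl (algebraMap B C (algebraMap A B a)) + TrivSqZeroExt.inr (D (algebraMap A B a))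
  rw [← IsScalarTower.algebraMap_apply, Derivation.map_algebraMap, TrivSqZeroExt.inr_zero, add_zero]

theorem isTrivialOver_ofDerivation (D : Derivation A B L) : (Ext.ofDerivation (C := C) D).IsTrivialOver A :=
  isTrivialOver_of_sec _ (derSec_proj D) (derSec_algebraMap D)

theorem derOf_ofDerivation (D : Derivation A B L) :
    derOf (Ext.ofDerivation (C := C) D) (derSec D) (derSec_proj D) (derSec_algebraMap D) = D := by
  ext b
  apply (Ext.ofDerivation (C := C) D).isExtension.incl_injective
  rw [incl_derOf, sub_eq_iff_eq_add']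
  rfl

theorem exists_derivation {X : Ext B C L} (h : X.IsTrivialOver A) :
    ∃ D : Derivation A B L, Nonempty (X.Equiv (Ext.ofDerivation (C := C) D)) := by
  obtain ⟨s, hs, hA⟩ := exists_sec h
  exact ⟨derOf X s hs hA, ⟨(equivOfSection X s hs hA).symm⟩⟩

/-- Derivations differing by one extending to `C` give equivalent extensions. -/
theorem equiv_of_eq_add (D₁ D₂ : Derivation A B L) (D' : Derivation A C L)
    (h : ∀ b, D₂ b = D₁ b + D' (algebraMap B C b)) :
    Nonempty ((Ext.ofDerivation (C := C) D₁).Equiv (Ext.ofDerivation (C := C) D₂)) := by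
  let f : TrivSqZeroExt C L → TrivSqZeroExt C L := fun x => x + TrivSqZeroExt.inr (D' x.fst)
  refine ⟨mkEquiv
    { toFun := f
      map_one' := by
        show (1 : TrivSqZeroExt C L) + TrivSqZeroExt.inr (D' (1 : TrivSqZeroExt C L).fst) = 1
        rw [TrivSqZeroExt.fst_one, Derivation.map_one_eq_zero, TrivSqZeroExt.inr_zero, add_zero]
      map_mul' := fun (x y : TrivSqZeroExt C L) => by
        show f (x * y) = f x * f y
        apply TrivSqZeroExt.ext
        · simp [f]
        · simp only [f, TrivSqZeroExt.snd_add, TrivSqZeroExt.snd_inr, TrivSqZeroExt.snd_mul, TrivSqZeroExt.fst_add,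
            TrivSqZeroExt.fst_inr, add_zero, op_smul_eq_smul, TrivSqZeroExt.fst_mul, Derivation.leibniz, smul_add]
          abel
      map_zero' := by
        show (0 : TrivSqZeroExt C L) + TrivSqZeroExt.inr (D' (0 : TrivSqZeroExt C L).fst) = 0
        rw [TrivSqZeroExt.fst_zero, map_zero, TrivSqZeroExt.inr_zero, add_zero]
      map_add' := fun (x y : TrivSqZeroExt C L) => by
        show x + y + TrivSqZeroExt.inr (D' (x + y).fst) = f x + f y
        rw [TrivSqZeroExt.fst_add, map_add, TrivSqZeroExt.inr_add]
        show _ = x + TrivSqZeroExt.inr _ + (y + TrivSqZeroExt.inr _)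
        abel
      commutes' := fun b => by
        show f (TrivSqZeroExt.inl (algebraMap B C b) + TrivSqZeroExt.inr (D₁ b))
          = TrivSqZeroExt.inl (algebraMap B C b) + TrivSqZeroExt.inr (D₂ b)
        apply TrivSqZeroExt.ext <;> simp [f, h] } (fun (x : TrivSqZeroExt C L) => ?_) fun z => ?_⟩
  · show (f x).fst = x.fst
    simp [f]
  · show f (TrivSqZeroExt.inr z) = TrivSqZeroExt.inr z
    simp [f]

end SameUniverse

end Groth.Agent.ExalLib
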