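import Groth.Agent.ExalLib.Basic
import Groth.Prelude.Def_Exal3
import Mathlib.RingTheory.Kaehler.Basic

/-!
# The characteristic homomorphism through derivations
-/

set_option autoImplicit false
set_option linter.style.haveILetI false
set_option backward.isDefEq.respectTransparency false

universe u v

namespace Groth.Agent.ExalLib

open Exal TensorProduct KaehlerDifferential

attribute [local instance] Exal.opModule Exal.isCentralScalar_opModule

variable {A : Type u} {B C L : Type v} [CommRing A] [CommRing B] [CommRing C] [Algebra A B] [Algebra B C]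
  [Algebra A C] [IsScalarTower A B C] [AddCommGroup L] [Module C L]
  [Module B L] [IsScalarTower B C L] [Module A L] [IsScalarTower A B L]

variable (C) in
/-- The linear form on `C ⊗ Ω` of a derivation. -/
noncomputable def linOf (D : Derivation A B L) : C ⊗[B] Ω[B⁄A] →ₗ[C] L :=
  LinearMap.liftBaseChange C D.liftKaehlerDifferential

theorem linOf_tmul_D (D : Derivation A B L) (c : C) (b : B) :
    linOf C D (c ⊗ₜ KaehlerDifferential.D A B b) = c • D b := by
  rw [linOf, LinearMap.liftBaseChange_tmul, Derivation.liftKaehlerDifferential_comp_D]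

/-- Two additive maps on `C ⊗ Ω` agree if they agree on `c ⊗ db`. -/
theorem ext_tmul_D {M : Type*} [AddCommGroup M] (f g : C ⊗[B] Ω[B⁄A] →+ M)
    (h : ∀ c b, f (c ⊗ₜ KaehlerDifferential.D A B b) = g (c ⊗ₜ KaehlerDifferential.D A B b))
    (x : C ⊗[B] Ω[B⁄A]) : f x = g x := by
  induction x using TensorProduct.induction_on with
  | zero => rw [map_zero, map_zero]
  | add x y hx hy => rw [map_add, map_add, hx, hy]
  | tmul c ω =>
    have hω : ω ∈ Submodule.span B (Set.range (KaehlerDifferential.D A B)) := by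
      rw [KaehlerDifferential.span_range_derivation]; trivial
    induction hω using Submodule.span_induction generalizing c with
    | mem y hy => obtain ⟨b, rfl⟩ := hy; exact h c b
    | zero => rw [tmul_zero, map_zero, map_zero]
    | add y z _ _ hy hz => rw [tmul_add, map_add, map_add, hy c, hz c]
    | smul r y _ hy => rw [← smul_tmul, hy (r • c)]

theorem exists_derivation_of_lin (Φ : C ⊗[B] Ω[B⁄A] →ₗ[C] L) :
    ∃ D : Derivation A B L, ∀ x, linOf C D x = Φ x := by
  refine ⟨((Φ.restrictScalars B).comp (TensorProduct.mk B C Ω[B⁄A] 1)).compDer (KaehlerDifferential.D A B), fun x => ?_⟩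
  refine ext_tmul_D (linOf C _).toAddMonoidHom Φ.toAddMonoidHom (fun c b => ?_) x
  rw [LinearMap.toAddMonoidHom_coe, LinearMap.toAddMonoidHom_coe]
  rw [linOf_tmul_D]
  show c • Φ ((1 : C) ⊗ₜ KaehlerDifferential.D A B b) = _
  rw [← LinearMap.map_smul Φ c, smul_tmul', smul_eq_mul, mul_one]

section

variable (X : Ext B C L) (s : C →+* X.E) (hs : ∀ c, X.proj (s c) = c)
  (hsA : ∀ a, s (algebraMap A C a) = algebraMap B X.E (algebraMap A B a))

theorem mapBaseChange_baseChangeToMiddle (z : C ⊗[B] Ω[B⁄A]) :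
    KaehlerDifferential.mapBaseChange A (X.CharCarrier A) C (X.baseChangeToMiddle A z)
      = KaehlerDifferential.mapBaseChange A B C z := by
  refine ext_tmul_D ((KaehlerDifferential.mapBaseChange A (X.CharCarrier A) C).toAddMonoidHom.comp
    (X.baseChangeToMiddle A).toAddMonoidHom) (KaehlerDifferential.mapBaseChange A B C).toAddMonoidHom (fun c b => ?_) z
  show KaehlerDifferential.mapBaseChange A (X.CharCarrier A) C
      (c ⊗ₜ KaehlerDifferential.map A A B (X.CharCarrier A) (KaehlerDifferential.D A B b)) =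
    KaehlerDifferential.mapBaseChange A B C (c ⊗ₜ KaehlerDifferential.D A B b)
  rw [KaehlerDifferential.map_D, KaehlerDifferential.mapBaseChange_tmul, KaehlerDifferential.mapBaseChange_tmul,
    KaehlerDifferential.map_D, KaehlerDifferential.map_D, ← IsScalarTower.algebraMap_apply B (X.CharCarrier A) C]

theorem mem_range_deltaL {z : C ⊗[B] Ω[B⁄A]} (hz : z ∈ EGA41.imperfection A B C) :
    ∃ l, X.deltaL A l = X.baseChangeToMiddle A z := by
  have hsur : Function.Surjective (algebraMap (X.CharCarrier A) C) := X.isExtension.proj_surjective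
  obtain ⟨x, hx⟩ := (KaehlerDifferential.exact_kerCotangentToTensor_mapBaseChange A (X.CharCarrier A) C hsur _).1
    (show KaehlerDifferential.mapBaseChange A (X.CharCarrier A) C (X.baseChangeToMiddle A z) = 0 by
      rw [mapBaseChange_baseChangeToMiddle]; exact hz)
  obtain ⟨⟨x, hxk⟩, rfl⟩ := Ideal.toCotangent_surjective _ x
  obtain ⟨l, hl⟩ := (X.isExtension.exact x).1 hxk
  refine ⟨l, ?_⟩
  rw [← hx, KaehlerDifferential.kerCotangentToTensor_toCotangent]
  show (1 : C) ⊗ₜ[X.CharCarrier A] KaehlerDifferential.D A (X.CharCarrier A) (X.incl l) = _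
  rw [hl]

/-- A retraction of `deltaL` from a section. -/
theorem exists_retr : ∃ r : C ⊗[X.CharCarrier A] Ω[X.CharCarrier A⁄A] →+ L,
    (∀ l, r (X.deltaL A l) = l) ∧ ∀ z, r (X.baseChangeToMiddle A z) = linOf C (derOf X s hs hsA) z := by
  letI : Module (X.CharCarrier A) L := Module.compHom L (algebraMap (X.CharCarrier A) C)
  haveI : IsScalarTower (X.CharCarrier A) C L := IsScalarTower.of_algebraMap_smul fun _ _ => rfl
  haveI : IsScalarTower A (X.CharCarrier A) L := IsScalarTower.of_algebraMap_smul fun a l => by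
    show X.proj (algebraMap B X.E (algebraMap A B a)) • l = a • l
    rw [X.proj.commutes, IsScalarTower.algebraMap_smul, IsScalarTower.algebraMap_smul]
  let f : X.CharCarrier A →+* X.E := RingHom.id X.E
  let g : X.CharCarrier A →+* X.E := s.comp (algebraMap (X.CharCarrier A) C)
  have hp : ∀ e, X.proj (f e) = X.proj (g e) := fun e => (hs _).symm
  have act : ∀ (e : X.CharCarrier A) (l : L), e • l = X.proj (g e) • l := fun e l => by
    show algebraMap (X.CharCarrier A) C e • l = X.proj (s _) • l
    rw [hs]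
  have hA : ∀ a, f (algebraMap A (X.CharCarrier A) a) = g (algebraMap A (X.CharCarrier A) a) := fun a => by
    show algebraMap B X.E (algebraMap A B a) = s (X.proj (algebraMap B X.E (algebraMap A B a)))
    rw [X.proj.commutes, ← IsScalarTower.algebraMap_apply A B C, hsA]
  let DE : Derivation A (X.CharCarrier A) L := diffDer (A := A) X f g hp act hA
  have hDE : ∀ e, X.incl (DE e) = f e - g e := incl_diffDer (A := A) X f g hp act hA
  refine ⟨(LinearMap.liftBaseChange C DE.liftKaehlerDifferential).toAddMonoidHom, fun l => ?_, fun z => ?_⟩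
  · show LinearMap.liftBaseChange C DE.liftKaehlerDifferential
      ((1 : C) ⊗ₜ KaehlerDifferential.D A (X.CharCarrier A) (X.inclC A l)) = l
    rw [LinearMap.liftBaseChange_tmul, one_smul, Derivation.liftKaehlerDifferential_comp_D]
    apply X.isExtension.incl_injective
    rw [hDE]
    show X.incl l - s (X.proj (X.incl l)) = X.incl l
    rw [proj_incl, map_zero, sub_zero]
  · refine ext_tmul_D ((LinearMap.liftBaseChange C DE.liftKaehlerDifferential).toAddMonoidHom.comp
      (X.baseChangeToMiddle A).toAddMonoidHom) (linOf C (derOf X s hs hsA)).toAddMonoidHom (fun c b => ?_) z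
    show LinearMap.liftBaseChange C DE.liftKaehlerDifferential
      (c ⊗ₜ KaehlerDifferential.map A A B (X.CharCarrier A) (KaehlerDifferential.D A B b)) = linOf C (derOf X s hs hsA) (c ⊗ₜ KaehlerDifferential.D A B b)
    rw [linOf_tmul_D, KaehlerDifferential.map_D, LinearMap.liftBaseChange_tmul,
      Derivation.liftKaehlerDifferential_comp_D]
    congr 1
    apply X.isExtension.incl_injective
    rw [hDE, incl_derOf]
    show algebraMap B X.E b - s (X.proj (algebraMap B X.E b)) = _
    rw [X.proj.commutes]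

/-- The characteristic homomorphism is the linear form of the derivation. -/
theorem isCharHom_iff (χ : EGA41.imperfection A B C →ₗ[C] L) :
    X.IsCharHom A χ ↔ ∀ z : EGA41.imperfection A B C, χ z = linOf C (derOf X s hs hsA) (z : C ⊗[B] Ω[B⁄A]) := by
  obtain ⟨r, hr1, hr2⟩ := exists_retr X s hs hsA
  refine ⟨fun h z => ?_, fun h z => ?_⟩
  · rw [← hr1 (χ z), h z, hr2]
  · obtain ⟨l, hl⟩ := mem_range_deltaL X z.2
    rw [h z, ← hr2, ← hl, hr1]

include hs hsA in
theorem existsUnique_charHom : ∃! χ : EGA41.imperfection A B C →ₗ[C] L, X.IsCharHom A χ :=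
  ⟨(linOf C (derOf X s hs hsA)).comp (Submodule.subtype _), (isCharHom_iff X s hs hsA _).2 fun _ => rfl,
    fun χ hχ => LinearMap.ext ((isCharHom_iff X s hs hsA χ).1 hχ)⟩

end

/-- The conditions of the classification: injectivity of the target or splittings. -/
theorem equiv_of_charHom
    (h : Module.Injective C L ∨ ∃ t : Ω[C⁄B] →ₗ[C] Ω[C⁄A], ∀ ω, KaehlerDifferential.map A B C C (t ω) = ω)
    (X Y : Ext B C L) (hX : X.IsTrivialOver A) (hY : Y.IsTrivialOver A)
    (χ : EGA41.imperfection A B C →ₗ[C] L) (hXχ : X.IsCharHom A χ) (hYχ : Y.IsCharHom A χ) :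
    Nonempty (X.Equiv Y) := by
  letI : Module A L := inferInstance
  haveI : IsScalarTower A C L := IsScalarTower.of_algebraMap_smul fun a l => by
    rw [IsScalarTower.algebraMap_apply A B C, IsScalarTower.algebraMap_smul, IsScalarTower.algebraMap_smul]
  obtain ⟨s, hs, hsA⟩ := exists_sec hX
  obtain ⟨t, ht, htA⟩ := exists_sec hY
  let D₁ := derOf X s hs hsA
  let D₂ := derOf Y t ht htA
  let μ := KaehlerDifferential.mapBaseChange A B C
  let Φ : C ⊗[B] Ω[B⁄A] →ₗ[C] L := linOf C D₂ - linOf C D₁
  have hΦ : LinearMap.ker μ ≤ LinearMap.ker Φ := fun z hz => by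
    show linOf C D₂ z - linOf C D₁ z = 0
    rw [← (isCharHom_iff X s hs hsA χ).1 hXχ ⟨z, hz⟩, ← (isCharHom_iff Y t ht htA χ).1 hYχ ⟨z, hz⟩, sub_self]
  let ψ : LinearMap.range μ →ₗ[C] L :=
    (Submodule.liftQ (LinearMap.ker μ) Φ hΦ).comp μ.quotKerEquivRange.symm.toLinearMap
  have hψ : ∀ z, ψ ⟨μ z, LinearMap.mem_range_self μ z⟩ = Φ z := fun z => by
    have : μ.quotKerEquivRange.symm ⟨μ z, LinearMap.mem_range_self μ z⟩ = Submodule.Quotient.mk z := by
      rw [LinearEquiv.symm_apply_eq]; rfl
    show Submodule.liftQ _ Φ hΦ (μ.quotKerEquivRange.symm _) = _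
    rw [this]; rfl
  obtain ⟨ψ', hψ'⟩ : ∃ ψ' : Ω[C⁄A] →ₗ[C] L, ∀ z, ψ' (μ z) = Φ z := by
    rcases h with hI | ⟨τ, hτ⟩
    · obtain ⟨e, he⟩ := hI.out (LinearMap.range μ).subtype Subtype.val_injective ψ
      exact ⟨e, fun z => (he ⟨μ z, LinearMap.mem_range_self μ z⟩).trans (hψ z)⟩
    · let m := KaehlerDifferential.map A B C C
      have hm : ∀ ω, ω - τ (m ω) ∈ LinearMap.range μ := fun ω =>
        (KaehlerDifferential.exact_mapBaseChange_map A B C _).1 (by
          show m (ω - τ (m ω)) = 0
          rw [map_sub, hτ, sub_self])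
      refine ⟨ψ.comp ((LinearMap.id - τ.comp m).codRestrict _ hm), fun z => ?_⟩
      rw [← hψ z, LinearMap.comp_apply]
      congr 1
      apply Subtype.ext
      show μ z - τ (m (μ z)) = μ z
      rw [show m (μ z) = 0 from (KaehlerDifferential.exact_mapBaseChange_map A B C _).2 ⟨z, rfl⟩, map_zero, sub_zero]
  obtain ⟨e⟩ := equiv_of_eq_add (C := C) D₁ D₂ (ψ'.compDer (KaehlerDifferential.D A C)) fun b => by
    have h1 := hψ' ((1 : C) ⊗ₜ KaehlerDifferential.D A B b)
    rw [show μ ((1 : C) ⊗ₜ KaehlerDifferential.D A B b) = KaehlerDifferential.D A C (algebraMap B C b) by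
      rw [KaehlerDifferential.mapBaseChange_tmul, one_smul, KaehlerDifferential.map_D]] at h1
    show D₂ b = D₁ b + ψ' (KaehlerDifferential.D A C (algebraMap B C b))
    rw [h1]
    show _ = D₁ b + (linOf C D₂ _ - linOf C D₁ _)
    rw [linOf_tmul_D, linOf_tmul_D, one_smul, one_smul]
    abel
  exact ⟨((equivOfSection X s hs hsA).symm.trans e).trans (equivOfSection Y t ht htA)⟩

/-- Existence of an extension with a given characteristic homomorphism. -/
theorem exists_of_charHom
    (h : Module.Injective C L ∨ ∃ r : C ⊗[B] Ω[B⁄A] →ₗ[C] EGA41.imperfection A B C,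
      ∀ z : EGA41.imperfection A B C, r z = z)
    (χ : EGA41.imperfection A B C →ₗ[C] L) :
    ∃ X : Ext B C L, X.IsTrivialOver A ∧ X.IsCharHom A χ := by
  haveI : IsScalarTower A C L := IsScalarTower.of_algebraMap_smul fun a l => by
    rw [IsScalarTower.algebraMap_apply A B C, IsScalarTower.algebraMap_smul, IsScalarTower.algebraMap_smul]
  obtain ⟨Φ, hΦ⟩ : ∃ Φ : C ⊗[B] Ω[B⁄A] →ₗ[C] L, ∀ z : EGA41.imperfection A B C, Φ z = χ z := by
    rcases h with hI | ⟨r, hr⟩
    · obtain ⟨e, he⟩ := @Module.Injective.out C _ L _ _ hI (EGA41.imperfection A B C) (C ⊗[B] Ω[B⁄A]) inferInstance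
        inferInstance inferInstance inferInstance (EGA41.imperfection A B C).subtype Subtype.val_injective χ
      exact ⟨e, he⟩
    · exact ⟨χ.comp r, fun z => by rw [LinearMap.comp_apply, hr]⟩
  obtain ⟨D, hD⟩ := exists_derivation_of_lin Φ
  refine ⟨_, isTrivialOver_ofDerivation (C := C) D, (isCharHom_iff _ (derSec D) (derSec_proj D) (derSec_algebraMap D) χ).2 ?_⟩
  intro z
  rw [derOf_ofDerivation, hD, hΦ]

end Groth.Agent.ExalLib
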