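import Mathlib.RingTheory.Smooth.Basic
import Mathlib.Tactic.Module

/-!
# Symmetric 2-cocycles on a formally smooth algebra are coboundaries
-/

set_option autoImplicit false
set_option linter.style.haveILetI false

universe u v

namespace Groth.Agent.ExalLib

variable {A : Type u} {B : Type v} [CommRing A] [CommRing B] [Algebra A B]
  {L : Type v} [AddCommGroup L] [Module B L] [Module A L] [IsScalarTower A B L]

/-- A symmetric 2-cocycle. -/
structure SymCocycle (A : Type u) (B L : Type v) [CommRing A] [CommRing B] [Algebra A B] [AddCommGroup L] [Module B L]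
    [Module A L] where
  f : B →ₗ[A] B →ₗ[A] L
  symm : ∀ x y, f x y = f y x
  coc : ∀ x y z, f (x * y) z + z • f x y = x • f y z + f x (y * z)

/-- The extension ring of a cocycle. -/
@[nolint unusedArguments]
def CocRing (_c : SymCocycle A B L) : Type v := B × L

namespace CocRing

variable (c : SymCocycle A B L)

instance : AddCommGroup (CocRing c) := inferInstanceAs (AddCommGroup (B × L))
instance : Mul (CocRing c) := ⟨fun x y => (x.1 * y.1, x.1 • y.2 + y.1 • x.2 + c.f x.1 y.1)⟩
instance : One (CocRing c) := ⟨(1, -c.f 1 1)⟩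

@[ext] theorem ext' {x y : CocRing c} (h1 : x.1 = y.1) (h2 : x.2 = y.2) : x = y := Prod.ext h1 h2
theorem mul_fst (x y : CocRing c) : (x * y).1 = x.1 * y.1 := rfl
theorem mul_snd (x y : CocRing c) : (x * y).2 = x.1 • y.2 + y.1 • x.2 + c.f x.1 y.1 := rfl
theorem add_fst (x y : CocRing c) : (x + y).1 = x.1 + y.1 := rfl
theorem add_snd (x y : CocRing c) : (x + y).2 = x.2 + y.2 := rfl

theorem f_one_left (x : B) : c.f 1 x = x • c.f 1 1 := by
  have h := c.coc 1 1 x
  rw [one_mul, one_smul, one_mul] at h
  exact ((add_right_inj _).1 h).symm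

instance : CommRing (CocRing c) where
  __ := (inferInstance : AddCommGroup (CocRing c))
  mul_assoc x y z := by
    refine ext' c (mul_assoc _ _ _) ?_
    simp only [mul_snd, mul_fst, smul_add, mul_smul]
    linear_combination (norm := module) c.coc x.1 y.1 z.1
  one_mul x := by
    refine ext' c (one_mul _) ?_
    show (1 : B) • x.2 + x.1 • -c.f 1 1 + c.f 1 x.1 = x.2
    rw [f_one_left c x.1, one_smul, smul_neg]
    abel
  mul_one x := by
    refine ext' c (mul_one _) ?_
    show x.1 • -c.f 1 1 + (1 : B) • x.2 + c.f x.1 1 = x.2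
    rw [c.symm x.1 1, f_one_left c x.1, one_smul, smul_neg]
    abel
  left_distrib x y z := by
    refine ext' c (mul_add _ _ _) ?_
    simp only [mul_snd, add_snd, mul_fst, add_fst, smul_add, add_smul, map_add]
    abel
  right_distrib x y z := by
    refine ext' c (add_mul _ _ _) ?_
    simp only [mul_snd, add_snd, mul_fst, add_fst, smul_add, add_smul, map_add, LinearMap.add_apply]
    abel
  zero_mul x := by
    refine ext' c (zero_mul _) ?_
    show (0 : B) • x.2 + x.1 • (0 : L) + c.f 0 x.1 = 0
    rw [zero_smul, smul_zero, map_zero, LinearMap.zero_apply, add_zero, add_zero]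
  mul_zero x := by
    refine ext' c (mul_zero _) ?_
    show x.1 • (0 : L) + (0 : B) • x.2 + c.f x.1 0 = 0
    rw [zero_smul, smul_zero, map_zero, add_zero, add_zero]
  mul_comm x y := by
    refine ext' c (mul_comm _ _) ?_
    rw [mul_snd, mul_snd, c.symm y.1 x.1]
    abel

theorem f_algebraMap (a : A) (x : B) : c.f (algebraMap A B a) x = algebraMap A B a • x • c.f 1 1 := by
  rw [Algebra.algebraMap_eq_smul_one, map_smul, LinearMap.smul_apply, f_one_left, smul_assoc, one_smul]

instance : Algebra A (CocRing c) :=
  RingHom.toAlgebra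
    { toFun := fun a => ((algebraMap A B a, -(a • c.f 1 1)) : B × L)
      map_one' := ext' c (map_one _) (by show -((1 : A) • c.f 1 1) = -c.f 1 1; rw [one_smul])
      map_mul' := fun a b => by
        refine ext' c (map_mul _ _ _) ?_
        show -((a * b) • c.f 1 1) = algebraMap A B a • -(b • c.f 1 1) + algebraMap A B b • -(a • c.f 1 1)
          + c.f (algebraMap A B a) (algebraMap A B b)
        rw [f_algebraMap]
        simp only [smul_neg, IsScalarTower.algebraMap_smul, smul_smul]
        rw [mul_comm b a]
        abel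
      map_zero' := ext' c (map_zero _) (by show -((0 : A) • c.f 1 1) = 0; rw [zero_smul, neg_zero])
      map_add' := fun a b => ext' c (map_add _ _ _) (by
        show -((a + b) • c.f 1 1) = -(a • c.f 1 1) + -(b • c.f 1 1)
        rw [add_smul, neg_add]) }

/-- The projection. -/
def proj : CocRing c →ₐ[A] B where
  toFun x := x.1
  map_one' := rfl
  map_mul' _ _ := rfl
  map_zero' := rfl
  map_add' _ _ := rfl
  commutes' _ := rfl

theorem exists_coboundary [Algebra.FormallySmooth A B] :
    ∃ g : B →ₗ[A] L, ∀ x y : B, c.f x y = x • g y - g (x * y) + y • g x := by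
  have hsur : Function.Surjective (proj c) := fun b => ⟨((b, 0) : B × L), rfl⟩
  have hsq : IsNilpotent (RingHom.ker (proj c : CocRing c →+* B)) := ⟨2, by
    rw [pow_two, Ideal.zero_eq_bot, ← le_bot_iff, Ideal.mul_le]
    intro r hr s hs
    have hr' : r.1 = 0 := hr
    have hs' : s.1 = 0 := hs
    refine ext' c ?_ ?_
    · show r.1 * s.1 = 0
      rw [hr', zero_mul]
    · show r.1 • s.2 + s.1 • r.2 + c.f r.1 s.1 = 0
      rw [hr', hs', zero_smul, zero_smul, map_zero, add_zero, add_zero]⟩
  let s := Algebra.FormallySmooth.liftOfSurjective (AlgHom.id A B) (proj c) hsur hsq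
  have hs : ∀ b, (s b).1 = b := fun b =>
    Algebra.FormallySmooth.liftOfSurjective_apply (AlgHom.id A B) (proj c) hsur hsq b
  have hmul : ∀ x y, (s (x * y)).2 = x • (s y).2 + y • (s x).2 + c.f x y := fun x y => by
    rw [map_mul s x y, mul_snd, hs, hs]
  let g : B →ₗ[A] L :=
    { toFun := fun b => -(s b).2
      map_add' := fun x y => by rw [map_add, add_snd, neg_add]
      map_smul' := fun a x => by
        show -(s (a • x)).2 = a • -(s x).2
        have ha : (s (algebraMap A B a)).2 = -(a • c.f 1 1) := by rw [s.commutes]; rfl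
        rw [Algebra.smul_def, hmul, ha, f_algebraMap, IsScalarTower.algebraMap_smul, IsScalarTower.algebraMap_smul,
          smul_neg, smul_comm x a (c.f 1 1), smul_neg]
        abel }
  refine ⟨g, fun x y => ?_⟩
  show c.f x y = x • -(s y).2 - -(s (x * y)).2 + y • -(s x).2
  rw [hmul, smul_neg, smul_neg]
  abel

end CocRing

end Groth.Agent.ExalLib
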