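import Groth.Agent.ExalLib.Char
import Mathlib.RingTheory.Kaehler.JacobiZariski
import Mathlib.RingTheory.Smooth.Basic
import Mathlib.RingTheory.Smooth.Kaehler
import Mathlib.LinearAlgebra.TensorProduct.RightExactness

/-!
# The infinitesimal extension `B/K²` and its characteristic homomorphism
-/

set_option autoImplicit false
set_option linter.style.haveILetI false
set_option backward.isDefEq.respectTransparency false

universe u v

namespace Groth.Agent.ExalLib

open Exal TensorProduct KaehlerDifferential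

attribute [local instance] Exal.opModule Exal.isCentralScalar_opModule

section

variable {A : Type u} {B : Type v} [CommRing A] [CommRing B] [Algebra A B] (K : Ideal B)

theorem tmul_D_mem (x : B) (hx : x ∈ K) :
    (1 : B ⧸ K) ⊗ₜ[B] KaehlerDifferential.D A B x ∈ EGA41.imperfection A B (B ⧸ K) := by
  rw [EGA41.imperfection, LinearMap.mem_ker, KaehlerDifferential.mapBaseChange_tmul, KaehlerDifferential.map_D,
    Ideal.Quotient.algebraMap_eq, Ideal.Quotient.eq_zero_iff_mem.2 hx, map_zero, smul_zero]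

theorem exists_eq_tmul_D {y : (B ⧸ K) ⊗[B] Ω[B⁄A]} (hy : y ∈ EGA41.imperfection A B (B ⧸ K)) :
    ∃ x ∈ K, y = (1 : B ⧸ K) ⊗ₜ[B] KaehlerDifferential.D A B x := by
  obtain ⟨k, hk⟩ := (KaehlerDifferential.exact_kerCotangentToTensor_mapBaseChange A B (B ⧸ K)
    Ideal.Quotient.mk_surjective y).1 hy
  obtain ⟨⟨x, hxk⟩, rfl⟩ := Ideal.toCotangent_surjective _ k
  refine ⟨x, ?_, ?_⟩
  · rwa [Ideal.Quotient.algebraMap_eq, Ideal.mk_ker] at hxk
  · rw [← hk, KaehlerDifferential.kerCotangentToTensor_toCotangent]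

theorem tmul_D_eq_zero {x : B} (hx : x ∈ K) (h : K.toCotangent ⟨x, hx⟩ = 0) :
    (1 : B ⧸ K) ⊗ₜ[B] KaehlerDifferential.D A B x = 0 := by
  have hxk : x ∈ RingHom.ker (algebraMap B (B ⧸ K)) := by rwa [Ideal.Quotient.algebraMap_eq, Ideal.mk_ker]
  have h0 : (RingHom.ker (algebraMap B (B ⧸ K))).toCotangent ⟨x, hxk⟩ = 0 := by
    rw [Ideal.toCotangent_eq_zero] at h ⊢
    simpa [Ideal.Quotient.algebraMap_eq, Ideal.mk_ker] using h
  have h1 := congrArg (KaehlerDifferential.kerCotangentToTensor A B (B ⧸ K)) h0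
  rwa [map_zero, KaehlerDifferential.kerCotangentToTensor_toCotangent] at h1

variable (s : B ⧸ K →+* (Ext.infinitesimal K).E) (hs : ∀ c, (Ext.infinitesimal K).proj (s c) = c)
  (hsA : ∀ a, s (algebraMap A (B ⧸ K) a) = algebraMap B (Ext.infinitesimal K).E (algebraMap A B a))

theorem derOf_infinitesimal (x : B) (hx : x ∈ K) :
    derOf (Ext.infinitesimal K) s hs hsA x = K.toCotangent ⟨x, hx⟩ := by
  apply (Ext.infinitesimal K).isExtension.incl_injective
  rw [incl_derOf, Ideal.Quotient.algebraMap_eq, Ideal.Quotient.eq_zero_iff_mem.2 hx, map_zero, sub_zero]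
  show Ideal.Quotient.mk (K ^ 2) x = K.cotangentToQuotientSquare (K.toCotangent ⟨x, hx⟩)
  rw [Ideal.toCotangent_to_quotient_square]
  rfl

theorem linOf_tmul_D_infinitesimal (x : B) (hx : x ∈ K) :
    linOf (B ⧸ K) (derOf (Ext.infinitesimal K) s hs hsA) ((1 : B ⧸ K) ⊗ₜ[B] KaehlerDifferential.D A B x)
      = K.toCotangent ⟨x, hx⟩ := by
  rw [linOf_tmul_D, one_smul, derOf_infinitesimal K s hs hsA x hx]

theorem linOf_eq_zero {y : (B ⧸ K) ⊗[B] Ω[B⁄A]} (hy : y ∈ EGA41.imperfection A B (B ⧸ K))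
    (h : linOf (B ⧸ K) (derOf (Ext.infinitesimal K) s hs hsA) y = 0) : y = 0 := by
  obtain ⟨x, hx, rfl⟩ := exists_eq_tmul_D K hy
  rw [linOf_tmul_D_infinitesimal K s hs hsA x hx] at h
  exact tmul_D_eq_zero K hx h

end

section Triple

variable {Λ : Type u} {A B : Type v} [CommRing Λ] [CommRing A] [CommRing B] [Algebra Λ A] [Algebra Λ B] [Algebra A B]
  [IsScalarTower Λ A B] {C : Type v} [CommRing C] [Algebra B C] [Algebra A C] [IsScalarTower A B C]

/-- `C ⊗_A Ω_{A/Λ} → C ⊗_B Ω_{B/Λ}`. -/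
noncomputable def iota : C ⊗[A] Ω[A⁄Λ] →ₗ[C] C ⊗[B] Ω[B⁄Λ] :=
  ((KaehlerDifferential.mapBaseChange Λ A B).baseChange C).comp
    (TensorProduct.AlgebraTensorModule.cancelBaseChange A B C C Ω[A⁄Λ]).symm.toLinearMap

theorem iota_apply (z : C ⊗[A] Ω[A⁄Λ]) : iota (B := B) z = (KaehlerDifferential.mapBaseChange Λ A B).baseChange C
    ((TensorProduct.AlgebraTensorModule.cancelBaseChange A B C C Ω[A⁄Λ]).symm z) := rfl

theorem iota_tmul_D (c : C) (a : A) :
    iota (B := B) (c ⊗ₜ KaehlerDifferential.D Λ A a) = c ⊗ₜ KaehlerDifferential.D Λ B (algebraMap A B a) := by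
  rw [iota_apply, TensorProduct.AlgebraTensorModule.cancelBaseChange_symm_tmul, LinearMap.baseChange_tmul,
    KaehlerDifferential.mapBaseChange_tmul, one_smul, KaehlerDifferential.map_D]

variable [Algebra Λ C] [IsScalarTower Λ B C] [IsScalarTower Λ A C]

theorem mapBaseChange_iota (z : C ⊗[A] Ω[A⁄Λ]) :
    KaehlerDifferential.mapBaseChange Λ B C (iota (B := B) z) = KaehlerDifferential.mapBaseChange Λ A C z := by
  refine ext_tmul_D ((KaehlerDifferential.mapBaseChange Λ B C).toAddMonoidHom.comp (iota (B := B)).toAddMonoidHom)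
    (KaehlerDifferential.mapBaseChange Λ A C).toAddMonoidHom (fun c a => ?_) z
  show KaehlerDifferential.mapBaseChange Λ B C (iota (B := B) (c ⊗ₜ KaehlerDifferential.D Λ A a)) =
    KaehlerDifferential.mapBaseChange Λ A C (c ⊗ₜ KaehlerDifferential.D Λ A a)
  rw [iota_tmul_D, KaehlerDifferential.mapBaseChange_tmul, KaehlerDifferential.mapBaseChange_tmul,
    KaehlerDifferential.map_D, KaehlerDifferential.map_D, ← IsScalarTower.algebraMap_apply A B C]

theorem iota_exact (y : C ⊗[B] Ω[B⁄Λ]) :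
    (∃ z, iota (A := A) (B := B) z = y) ↔ (KaehlerDifferential.map Λ A B B).lTensor C y = 0 := by
  have hex := lTensor_exact C (KaehlerDifferential.exact_mapBaseChange_map Λ A B)
    (KaehlerDifferential.map_surjective Λ A B)
  rw [(hex y)]
  constructor
  · rintro ⟨z, rfl⟩
    exact ⟨_, rfl⟩
  · rintro ⟨w, rfl⟩
    refine ⟨TensorProduct.AlgebraTensorModule.cancelBaseChange A B C C Ω[A⁄Λ] w, ?_⟩
    rw [iota_apply, LinearEquiv.symm_apply_apply]
    rfl

variable (C) in
theorem iota_injective [Algebra.FormallySmooth A B] : Function.Injective (iota (Λ := Λ) (A := A) (B := B) (C := C)) := by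
  have hinj : Function.Injective (KaehlerDifferential.mapBaseChange Λ A B) := by
    refine (injective_iff_map_eq_zero _).2 fun x hx => ?_
    obtain ⟨h, rfl⟩ := (Algebra.H1Cotangent.exact_δ_mapBaseChange Λ A B x).1 hx
    rw [Subsingleton.elim h 0, map_zero]
  obtain ⟨t, ht⟩ := Module.projective_lifting_property (KaehlerDifferential.map Λ A B B) LinearMap.id
    (KaehlerDifferential.map_surjective Λ A B)
  let μ := KaehlerDifferential.mapBaseChange Λ A B
  let m := KaehlerDifferential.map Λ A B B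
  have hm : ∀ ω, ω - t (m ω) ∈ LinearMap.range μ := fun ω =>
    (KaehlerDifferential.exact_mapBaseChange_map Λ A B _).1 (by
      show m (ω - t (m ω)) = 0
      rw [map_sub, show m (t (m ω)) = m ω from LinearMap.congr_fun ht (m ω), sub_self])
  let r : Ω[B⁄Λ] →ₗ[B] B ⊗[A] Ω[A⁄Λ] :=
    (LinearEquiv.ofInjective μ hinj).symm.toLinearMap.comp ((LinearMap.id - t.comp m).codRestrict _ hm)
  have hr : r.comp μ = LinearMap.id := LinearMap.ext fun x => by
    show (LinearEquiv.ofInjective μ hinj).symm _ = x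
    rw [LinearEquiv.symm_apply_eq]
    apply Subtype.ext
    show μ x - t (m (μ x)) = μ x
    rw [show m (μ x) = 0 from (KaehlerDifferential.exact_mapBaseChange_map Λ A B _).2 ⟨x, rfl⟩, map_zero, sub_zero]
  intro z z' h
  apply (TensorProduct.AlgebraTensorModule.cancelBaseChange A B C C Ω[A⁄Λ]).symm.injective
  have h2 := congrArg (r.baseChange C) h
  rw [iota_apply, iota_apply, ← LinearMap.comp_apply, ← LinearMap.comp_apply, ← LinearMap.baseChange_comp] at h2
  change (r.comp μ).baseChange C _ = (r.comp μ).baseChange C _ at h2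
  rwa [hr, LinearMap.baseChange_id] at h2

end Triple

end Groth.Agent.ExalLib
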